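import Cfsg.Agent.Lib.Cam.P3
import Cfsg.Agent.Lib.BG.Hall
import Cfsg.Agent.Lib.Coprime.FT
import Cfsg.Agent.Lib.Core.Frattini
import Cfsg.Agent.Lib.Core.Solvable
import Cfsg.Agent.Lib.Transfer.NormalComplement
import Cfsg.Agent.S0081
import Cfsg.Agent.S0033
import Cfsg.Agent.S3863

/-! A group in which `G' ∖ N` is one conjugacy class (and cosets outside `G'` fuse modulo `N`) is solvable. -/

set_option autoImplicit false

namespace Cfsg.Lib.Cam

open Subgroup Cfsg Cfsg.Lib Cfsg.Lib.BG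

variable {G : Type*} [Group G] [Finite G]

omit [Finite G] in
theorem ord_conj {a b : G} (h : IsConj a b) : orderOf a = orderOf b := by
  obtain ⟨c, hc⟩ := h
  exact SemiconjBy.orderOf_eq (c : G) hc

theorem onto_of_le {S T : Subgroup G} {g : G} (hT : ∀ h ∈ S, h * g * h⁻¹ * g⁻¹ ∈ T)
    (hc : Nat.card T ≤ (centralizer ({g} : Set G)).relIndex S) : ∀ n ∈ T, ∃ h ∈ S, h * g * h⁻¹ * g⁻¹ = n := by
  let F : S ⧸ (centralizer ({g} : Set G)).subgroupOf S → T := fun q => ⟨_, hT q.out q.out.2⟩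
  have hF : Function.Injective F := by
    intro q q' e
    have e1 : (q.out : G) * g * (q.out : G)⁻¹ = q'.out * g * (q'.out : G)⁻¹ :=
      mul_right_cancel (congrArg Subtype.val e)
    rw [← q.out_eq', ← q'.out_eq', QuotientGroup.eq, mem_subgroupOf, mem_centralizer_singleton_iff]
    push_cast
    calc _ = (q.out : G)⁻¹ * (q'.out * g * (q'.out : G)⁻¹) * q'.out := by group
      _ = _ := by rw [← e1]; group
  intro n hn
  obtain ⟨q, hq⟩ := (hF.bijective_of_nat_card_le hc).2 ⟨n, hn⟩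
  exact ⟨q.out, q.out.2, congrArg Subtype.val hq⟩

theorem le_of_onto {S T : Subgroup G} {g : G} (h : ∀ n ∈ T, ∃ h ∈ S, h * g * h⁻¹ = n * g) :
    Nat.card T ≤ (centralizer ({g} : Set G)).relIndex S := by
  choose c hc hc' using h
  refine Nat.card_le_card_of_injective
    (fun u : T => ((⟨c u u.2, hc u u.2⟩ : S) : S ⧸ (centralizer ({g} : Set G)).subgroupOf S)) ?_
  intro u u' e
  have e1 := mem_centralizer_singleton_iff.1 (mem_subgroupOf.1 (QuotientGroup.eq.1 e))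
  push_cast at e1
  have e2 : c u u.2 * g * (c u u.2)⁻¹ = c u' u'.2 * g * (c u' u'.2)⁻¹ := by
    calc _ = c u u.2 * (g * ((c u u.2)⁻¹ * c u' u'.2)) * (c u' u'.2)⁻¹ := by group
      _ = _ := by rw [← e1]; group
  rw [hc', hc'] at e2
  exact Subtype.ext (mul_right_cancel e2)

theorem index_le {N : Subgroup G} {g : G} (hc : ∀ h, h * g * h⁻¹ * g⁻¹ ∈ N) :
    (centralizer ({g} : Set G)).index ≤ Nat.card N := by
  refine Nat.card_le_card_of_injective (fun q : G ⧸ centralizer ({g} : Set G) => (⟨_, hc q.out⟩ : N)) ?_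
  intro q q' e
  have e1 : q.out * g * q.out⁻¹ = q'.out * g * q'.out⁻¹ := mul_right_cancel (congrArg Subtype.val e)
  rw [← q.out_eq', ← q'.out_eq', QuotientGroup.eq, mem_centralizer_singleton_iff]
  calc _ = q.out⁻¹ * (q'.out * g * q'.out⁻¹) * q'.out := by group
    _ = _ := by rw [← e1]; group

theorem card_inf_le {p : ℕ} [hp : Fact p.Prime] (P : Sylow p G) {C N : Subgroup G} (h : C.index = Nat.card N) :
    Nat.card (N ⊓ P : Subgroup G) ≤ C.relIndex P := by
  have h3 : Nat.card (C.subgroupOf P) * Nat.card (N ⊓ P : Subgroup G) ∣ Nat.card G := by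
    rw [← card_mul_index C, h]
    refine Nat.mul_dvd_mul ?_ (card_dvd_of_le inf_le_left)
    rw [← card_map_of_injective (P : Subgroup G).subtype_injective, subgroupOf_map_subtype]
    exact card_dvd_of_le inf_le_left
  obtain ⟨a, ha⟩ := IsPGroup.iff_card.1 (P.isPGroup'.to_subgroup (C.subgroupOf P))
  obtain ⟨b, hb⟩ := IsPGroup.iff_card.1 (P.isPGroup'.to_le (inf_le_right : N ⊓ (P : Subgroup G) ≤ P))
  have h4 : Nat.card (C.subgroupOf P) * Nat.card (N ⊓ P : Subgroup G) ≤ Nat.card (P : Subgroup G) := by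
    rw [ha, hb, ← pow_add] at h3 ⊢
    rw [P.card_eq_multiplicity]
    exact Nat.pow_le_pow_right hp.out.pos ((hp.out.pow_dvd_iff_le_factorization Nat.card_pos.ne').1 h3)
  rw [← card_mul_index (C.subgroupOf (P : Subgroup G))] at h4
  exact Nat.le_of_mul_le_mul_left h4 Nat.card_pos

/-- Tate: if the class of the `p`-element `g` is the coset `N g`, then `N` is `p`-nilpotent. -/
theorem tate {p : ℕ} [hp : Fact p.Prime] (N : Subgroup G) [N.Normal] {g : G} (hg : IsPGroup p (zpowers g))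
    (hc : ∀ h, h * g * h⁻¹ * g⁻¹ ∈ N) (hn : ∀ n ∈ N, ∃ h, h * g * h⁻¹ = n * g) :
    HasNormalPComplement p N := by
  obtain ⟨P, hP⟩ := hg.exists_le_sylow
  have hgP : g ∈ (P : Subgroup G) := hP (mem_zpowers g)
  suffices hs : N ⊓ (P : Subgroup G) ≤ ⁅(P : Subgroup G), (P : Subgroup G)⁆ from
    Agent.S0081.result P N (hs.trans (Core.commutator_le_frattiniOf_of_isNilpotent P.isPGroup'.isNilpotent))
  have h1 : Nat.card N ≤ (centralizer ({g} : Set G)).index := by
    rw [← relIndex_top_right]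
    exact le_of_onto fun n h => (hn n h).imp fun _ e => ⟨mem_top _, e⟩
  have h2 : ∀ h ∈ (P : Subgroup G), h * g * h⁻¹ * g⁻¹ ∈ N ⊓ (P : Subgroup G) := fun h hh =>
    mem_inf.2 ⟨hc h, (P : Subgroup G).mul_mem ((P : Subgroup G).mul_mem ((P : Subgroup G).mul_mem hh hgP)
      ((P : Subgroup G).inv_mem hh)) ((P : Subgroup G).inv_mem hgP)⟩
  have h3 := onto_of_le h2 (card_inf_le P (le_antisymm (index_le hc) h1))
  intro n hn'
  obtain ⟨h, hh, e⟩ := h3 n hn'
  rw [← e]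
  exact commutator_mem_commutator hh hgP

theorem elem {V : Subgroup G} [hV : V.Normal] {g : G} (hg1 : g ≠ 1) (hgV : g ∈ V)
    (hcl : ∀ v ∈ V, v ≠ 1 → IsConj g v) :
    ∃ p : ℕ, p.Prime ∧ (∀ v ∈ V, v ^ p = 1) ∧ ∀ v ∈ V, ∀ w ∈ V, v * w = w * v := by
  obtain ⟨p, hp, hd⟩ := Nat.exists_prime_and_dvd (orderOf_eq_one_iff.not.2 hg1)
  have : Fact p.Prime := ⟨hp⟩
  have h1 : orderOf (g ^ (orderOf g / p)) = p := orderOf_pow_orderOf_div (orderOf_pos g).ne' hd
  have h2 : orderOf g = p := by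
    rw [← h1]
    exact ord_conj (hcl _ (pow_mem hgV _) fun e => hp.ne_one (by rw [← h1, e, orderOf_one]))
  have h3 : ∀ v ∈ V, v ^ p = 1 := fun v hv => by
    by_cases e : v = 1
    · rw [e, one_pow]
    · rw [← h2, ord_conj (hcl v hv e), pow_orderOf_eq_one]
  refine ⟨p, hp, h3, ?_⟩
  have hP : IsPGroup p V := fun v => ⟨1, Subtype.ext (by simpa using h3 v v.2)⟩
  have : Nontrivial V := (nontrivial_iff_ne_bot V).2 fun e => hg1 (by rwa [e, mem_bot] at hgV)
  obtain ⟨⟨z, hz⟩, hz1⟩ := (Subgroup.ne_bot_iff_exists_ne_one).1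
    ((nontrivial_iff_ne_bot _).1 hP.center_nontrivial)
  have hz2 : (z : G) ≠ 1 := fun e => hz1 (Subtype.ext (Subtype.ext e))
  intro v hv w hw
  by_cases e : v = 1
  · rw [e, one_mul, mul_one]
  obtain ⟨c, rfl⟩ := isConj_iff.1 ((hcl z z.2 hz2).symm.trans (hcl v hv e))
  have e1 : c⁻¹ * w * c * z = z * (c⁻¹ * w * c) :=
    congrArg Subtype.val (mem_center_iff.1 hz ⟨_, by simpa using hV.conj_mem w hw c⁻¹⟩)
  calc _ = c * (z * (c⁻¹ * w * c)) * c⁻¹ := by group
    _ = _ := by rw [← e1]; group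

theorem cen {g : G} (hg2 : g * g ≠ 1) (hgV : g ∈ _root_.commutator G)
    (hcl : ∀ v ∈ _root_.commutator G, v ≠ 1 → IsConj g v)
    (hx : ∀ x, x ∉ _root_.commutator G → ∀ v ∈ _root_.commutator G, IsConj x (v * x)) :
    centralizer ({g} : Set G) ≤ _root_.commutator G := by
  have hg1 : g ≠ 1 := fun e => hg2 (by rw [e, one_mul])
  obtain ⟨p, -, -, hab⟩ := elem hg1 hgV hcl
  set V := _root_.commutator G
  set C := centralizer ({g} : Set G)
  have hm : ∀ a b : G, a * b * a⁻¹ * b⁻¹ ∈ V := fun a b => commutator_mem_commutator (mem_top a) (mem_top b)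
  have hVC : V ≤ C := fun v hv => mem_centralizer_singleton_iff.2 (hab v hv g hgV)
  have hCV : ∀ c ∈ C, ∀ v ∈ V, c * v = v * c := by
    intro c hc v hv
    by_cases e : v = 1
    · rw [e, one_mul, mul_one]
    obtain ⟨k, rfl⟩ := isConj_iff.1 (hcl v hv e)
    have e1 := mem_centralizer_singleton_iff.1 (mul_mem (hVC (hm k⁻¹ c)) hc)
    calc _ = k * (k⁻¹ * c * k⁻¹⁻¹ * c⁻¹ * c * g) * k⁻¹ := by group
      _ = _ := by rw [e1]; group
  intro x hxC
  by_contra hxV
  have h1 : C ≤ centralizer ({x} : Set G) := by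
    intro y hy
    by_contra hne
    have hz : y * x * y⁻¹ * x⁻¹ ≠ 1 := fun e => hne (mem_centralizer_singleton_iff.2 (by
      calc y * x = y * x * y⁻¹ * x⁻¹ * (x * y) := by group
        _ = _ := by rw [e, one_mul]))
    have hcen : ∀ h : G, h * (y * x * y⁻¹ * x⁻¹) * h⁻¹ = y * x * y⁻¹ * x⁻¹ := by
      intro h
      obtain ⟨a, ha, ea⟩ : ∃ a ∈ V, h * y * h⁻¹ = a * y := ⟨_, hm h y, by group⟩
      obtain ⟨b, hb, eb⟩ : ∃ b ∈ V, h * x * h⁻¹ = b * x := ⟨_, hm h x, by group⟩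
      have e1 := hCV y hy b hb
      have e2 := hCV _ (mul_mem (mul_mem hy hxC) (inv_mem hy)) a ha
      have e3 := hab b hb a ha
      have e4 := hab b hb _ (hm y x)
      calc _ = (h * y * h⁻¹) * (h * x * h⁻¹) * (h * y * h⁻¹)⁻¹ * (h * x * h⁻¹)⁻¹ := by group
        _ = a * (y * b) * x * y⁻¹ * a⁻¹ * x⁻¹ * b⁻¹ := by rw [ea, eb]; group
        _ = (b * a) * (y * x * y⁻¹) * a⁻¹ * x⁻¹ * b⁻¹ := by rw [e1, e3]; group
        _ = b * (a * (y * x * y⁻¹)) * a⁻¹ * x⁻¹ * b⁻¹ := by group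
        _ = b * (y * x * y⁻¹ * x⁻¹) * b⁻¹ := by rw [← e2]; group
        _ = _ := by rw [e4]; group
    obtain ⟨k, hk⟩ := isConj_iff.1 (hcl _ (hm y x) hz).symm
    rw [hcen] at hk
    obtain ⟨l, hl⟩ := isConj_iff.1 (hcl _ (inv_mem hgV) (inv_ne_one.2 hg1))
    rw [← hk, hcen, hk] at hl
    exact hg2 (by nth_rewrite 1 [hl]; exact inv_mul_cancel g)
  have h2 : Nat.card V ≤ (centralizer ({x} : Set G)).relIndex ⊤ :=
    le_of_onto fun n hn => by simpa using isConj_iff.1 (hx x hxV n hn)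
  have h3 : (centralizer ({x} : Set G)).relIndex ⊤ ≤ C.relIndex ⊤ := by
    rw [relIndex_top_right, relIndex_top_right]
    exact Nat.le_of_dvd (Nat.pos_of_ne_zero index_ne_zero_of_finite) (index_dvd_of_le h1)
  obtain ⟨h, -, e⟩ := onto_of_le (S := ⊤) (g := g) (fun h _ => hm h g) (h2.trans h3) _ (inv_mem hgV)
  apply hg1
  calc g = h⁻¹ * (h * g * h⁻¹ * g⁻¹ * g) * h := by group
    _ = 1 := by rw [e]; group

theorem solvable (N : Subgroup G) [hN : N.Normal] {g : G} (hgM : g ∈ _root_.commutator G) (hgN : g ∉ N)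
    (hNM : N ≤ _root_.commutator G) (hcl : ∀ x ∈ _root_.commutator G, x ∉ N → IsConj g x)
    (hout : ∀ x, x ∉ _root_.commutator G → ∀ u ∈ _root_.commutator G, ∃ n ∈ N, IsConj x (n * u * x)) :
    Group.IsSolvable G := by
  set M := _root_.commutator G with hM
  set f := QuotientGroup.mk' N with hf
  have hs : Function.Surjective f := QuotientGroup.mk'_surjective N
  have hk : ∀ x, f x = 1 ↔ x ∈ N := fun x => QuotientGroup.eq_one_iff x
  have hfM : ∀ x, f x ∈ _root_.commutator (G ⧸ N) ↔ x ∈ M := fun x => by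
    rw [← map_comm f hs, ← mem_comap, comap_map_eq, hf, QuotientGroup.ker_mk', sup_eq_left.2 hNM]
  have hcl' : ∀ v ∈ _root_.commutator (G ⧸ N), v ≠ 1 → IsConj (f g) v := by
    intro v hv hv1
    obtain ⟨x, rfl⟩ := hs v
    exact f.map_isConj (hcl x ((hfM x).1 hv) fun e => hv1 ((hk x).2 e))
  have hg1 : f g ≠ 1 := fun e => hgN ((hk g).1 e)
  obtain ⟨p, hp, hpow, hab⟩ := elem hg1 ((hfM g).2 hgM) hcl'
  have : Fact p.Prime := ⟨hp⟩
  have hpN : ∀ x ∈ M, x ^ p ∈ N := fun x hx => (hk _).1 (by rw [map_pow, hpow _ ((hfM x).2 hx)])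
  -- elements of `M ∖ N` are `p`-elements
  obtain ⟨k, hk'⟩ : ∃ k, ∀ x ∈ M, x ∉ N → x ^ p ^ k = 1 := by
    obtain ⟨m, k, hm, hmk⟩ := Transfer.exists_pow_coprime_pow_pow_eq_one (p := p) g
    have h1 : g ^ m ∉ N := fun e => hg1 (by
      have e1 := (hk _).2 e
      rw [map_pow] at e1
      exact orderOf_eq_one_iff.1 (Nat.eq_one_of_dvd_coprimes hm (orderOf_dvd_of_pow_eq_one e1)
        (orderOf_dvd_of_pow_eq_one (hpow _ ((hfM g).2 hgM)))))
    refine ⟨k, fun x hx hx' => orderOf_dvd_iff_pow_eq_one.1 ?_⟩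
    rw [← ord_conj (hcl x hx hx'), ord_conj (hcl _ (pow_mem hgM m) h1)]
    exact orderOf_dvd_of_pow_eq_one hmk
  have hng : ∀ x ∈ M, x ∉ N → ∀ n ∈ N, ∃ h, h * x * h⁻¹ = n * x := fun x hx hx' n hn =>
    isConj_iff.1 ((hcl x hx hx').symm.trans (hcl _ (mul_mem (hNM hn) hx) fun e => hx' ((mul_mem_cancel_left hn).1 e)))
  have hcm : ∀ x h : G, h * x * h⁻¹ * x⁻¹ ∈ N ↔ f h ∈ centralizer ({f x} : Set (G ⧸ N)) := fun x h => by
    rw [← hk, mem_centralizer_singleton_iff, map_mul, map_mul, map_mul, map_inv, map_inv, mul_inv_eq_one,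
      mul_inv_eq_iff_eq_mul]
  -- `N` is `p`-nilpotent
  have hnpc : HasNormalPComplement p N := by
    set G₁ := (centralizer ({f g} : Set (G ⧸ N))).comap f
    have hMG : M ≤ G₁ := fun x hx => mem_centralizer_singleton_iff.2 (hab _ ((hfM x).2 hx) _ ((hfM g).2 hgM))
    refine Transfer.hasNormalPComplement_of_equiv
      (tate (N.subgroupOf G₁) (g := ⟨g, hMG hgM⟩) ?_ (fun h => (hcm g h).2 h.2) ?_)
      (subgroupOfEquivOfLe (hNM.trans hMG))
    · rintro ⟨_, i, rfl⟩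
      refine ⟨k, Subtype.ext (Subtype.ext ?_)⟩
      simp only [coe_pow, coe_zpow, coe_one]
      rw [← zpow_natCast, ← zpow_mul, mul_comm, zpow_mul, zpow_natCast, hk' g hgM hgN, one_zpow]
    · intro n hn
      obtain ⟨h, e⟩ := hng g hgM hgN n hn
      refine ⟨⟨h, (hcm g h).1 ?_⟩, Subtype.ext e⟩
      rw [e, mul_inv_cancel_right]
      exact hn
  have hH := hasNormalPComplement_iff.1 hnpc
  set K := 𝐎({p}ᶜ, N) with hK
  have hKn : K.Normal := normalizer_eq_top_iff.1 (top_le_iff.1 (norm_pcore (A := ⊤) le_normalizer_of_normal _))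
  set π := QuotientGroup.mk' K with hπ
  have hπs : Function.Surjective π := QuotientGroup.mk'_surjective K
  have hπk : ∀ x, π x = 1 ↔ x ∈ K := fun x => QuotientGroup.eq_one_iff x
  have hP : IsPGroup p (_root_.commutator (G ⧸ K)) := by
    rw [← map_comm π hπs]
    obtain ⟨j, hj⟩ := (PiNat.p_iff (p := p) (n := (K.subgroupOf N).index) index_ne_zero_of_finite).1
      (by have := hH.idx; rwa [compl_compl] at this)
    rintro ⟨_, x, hx, rfl⟩
    refine ⟨1 + j, Subtype.ext ?_⟩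
    have := (K.subgroupOf N).pow_index_mem ⟨_, hpN x hx⟩
    rw [hj] at this
    rw [coe_pow, coe_one, ← map_pow, hπk, pow_add, pow_one, pow_mul]
    exact this
  have hQ : Group.IsSolvable (G ⧸ K) := by
    have := hP.isNilpotent
    refine Core.isSolvable_of_normal_quotient (_root_.commutator (G ⧸ K)) inferInstance ?_
    exact Group.isSolvable_of_comm fun a b => mul_comm (G := Abelianization (G ⧸ K)) a b
  refine Core.isSolvable_of_normal_quotient K ?_ hQ
  by_cases hp2 : p = 2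
  · subst hp2
    exact Coprime.isSolvable_of_not_two_dvd (PiGrp.p'_iff.1 hH.pi)
  have hpo : Odd p := hp.odd_of_ne_two hp2
  have hg2 : f g * f g ≠ 1 := fun e => hg1 (orderOf_eq_one_iff.1 (Nat.eq_one_of_dvd_coprimes
    (Nat.coprime_two_left.2 hpo) (orderOf_dvd_of_pow_eq_one (by rw [pow_two, e]))
    (orderOf_dvd_of_pow_eq_one (hpow _ ((hfM g).2 hgM)))))
  have hC := cen hg2 ((hfM g).2 hgM) hcl' (by
    intro x hx v hv
    obtain ⟨x, rfl⟩ := hs x
    obtain ⟨v, rfl⟩ := hs v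
    obtain ⟨n, hn, e⟩ := hout x (fun e => hx ((hfM x).2 e)) v ((hfM v).1 hv)
    have := f.map_isConj e
    rwa [map_mul, map_mul, (hk n).2 hn, one_mul] at this)
  have hC' : ∀ x ∈ M, x ∉ N → ∀ h : G, h * x * h⁻¹ * x⁻¹ ∈ N → h ∈ M := by
    intro x hx hx' h hh
    obtain ⟨c, rfl⟩ := isConj_iff.1 (hcl x hx hx')
    have e1 := hN.conj_mem _ hh c⁻¹
    have e2 : c⁻¹ * h * c ∈ M := by
      refine (hfM _).1 (hC ((hcm g _).1 ?_))
      convert e1 using 1
      group
    simpa [mul_assoc] using (inferInstance : M.Normal).conj_mem _ e2 c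
  obtain ⟨t, ⟨j, hj⟩, ht⟩ := (Agent.S3863.result g (hcl _ (inv_mem hgM) fun e => hgN (inv_mem_iff.1 e))).1
  set P := _root_.commutator (G ⧸ K) with hPdef
  have hKN : K ≤ N := hH.le
  have hπM : ∀ x, π x ∈ P ↔ x ∈ M := fun x => by
    rw [hPdef, ← map_comm π hπs, ← mem_comap, comap_map_eq, hπ, QuotientGroup.ker_mk', sup_eq_left.2 (hKN.trans hNM)]
  have hrep : ∀ y : P, ∃ (x : G) (hx : x ∈ M), y = ⟨π x, (hπM x).2 hx⟩ := by
    rintro ⟨y, hy⟩
    obtain ⟨x, rfl⟩ := hπs y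
    exact ⟨x, (hπM x).1 hy, rfl⟩
  have hD : ∀ (x : G) (hx : x ∈ M), (⟨π x, (hπM x).2 hx⟩ : P) ∈ _root_.commutator P ↔ x ∈ N := by
    intro x hx
    constructor
    · intro h
      have h1 : _root_.commutator P ≤ (N.map π).subgroupOf P := by
        refine commutator_le.2 fun a _ b _ => ?_
        obtain ⟨a, ha, rfl⟩ := hrep a
        obtain ⟨b, hb, rfl⟩ := hrep b
        refine ⟨a * b * a⁻¹ * b⁻¹, (hcm b a).2 ?_, by simp [commutatorElement_def]⟩
        exact mem_centralizer_singleton_iff.2 (hab _ ((hfM a).2 ha) _ ((hfM b).2 hb))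
      have h2 : x ∈ (N.map π).comap π := h1 h
      rwa [comap_map_eq, hπ, QuotientGroup.ker_mk', sup_eq_left.2 hKN] at h2
    · intro h
      obtain ⟨c, hc⟩ := hng g hgM hgN x h
      have e : x = c * g * c⁻¹ * g⁻¹ := by rw [hc, mul_inv_cancel_right]
      have hcM := hC' g hgM hgN c (e ▸ h)
      have := commutator_mem_commutator (mem_top (⟨π c, (hπM c).2 hcM⟩ : P)) (mem_top (⟨π g, (hπM g).2 hgM⟩ : P))
      have e' : (⟨π x, (hπM x).2 hx⟩ : P) = ⟨π c, (hπM c).2 hcM⟩ * ⟨π g, (hπM g).2 hgM⟩ * (⟨π c, (hπM c).2 hcM⟩ : P)⁻¹ *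
          (⟨π g, (hπM g).2 hgM⟩ : P)⁻¹ := Subtype.ext (by simp [e])
      rw [e']
      exact this
  have ht2 : π t * π t = 1 := by
    have h1 : t * t ∈ M := hC' g hgM hgN _ (by
      have : t * t * g * (t * t)⁻¹ * g⁻¹ = t * (t * g * t⁻¹) * t⁻¹ * g⁻¹ := by group
      rw [this, ht, show t * g⁻¹ * t⁻¹ = (t * g * t⁻¹)⁻¹ by group, ht, inv_inv, mul_inv_cancel]
      exact one_mem N)
    obtain ⟨i, hi⟩ := hP ⟨_, (hπM _).2 h1⟩
    have h2 : (π t * π t) ^ p ^ i = 1 := by simpa using congrArg Subtype.val hi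
    have h3 : (π t * π t) ^ 2 ^ j = 1 := by
      rw [← pow_two, ← pow_mul, mul_comm, pow_mul, ← map_pow, ← hj, pow_orderOf_eq_one, map_one, one_pow]
    exact orderOf_eq_one_iff.1 (Nat.eq_one_of_dvd_coprimes
      (Nat.Coprime.pow j i (Nat.coprime_two_left.2 hpo)) (orderOf_dvd_of_pow_eq_one h3) (orderOf_dvd_of_pow_eq_one h2))
  let τ : P →* P := (MulAut.conjNormal (π t)).toMonoidHom
  have hτ : ∀ y : P, (τ y : G ⧸ K) = π t * y * (π t)⁻¹ := fun _ => rfl
  have hy : Hy P τ := by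
    refine ⟨?_, fun y => Subtype.ext ?_, fun y => ?_, fun y hy u hu => ?_⟩
    · obtain ⟨i, hi⟩ := IsPGroup.iff_card.1 hP
      rw [hi]
      exact hpo.pow
    · rw [hτ, hτ]
      calc _ = (π t * π t) * y * (π t * π t)⁻¹ := by group
        _ = _ := by rw [ht2]; group
    · obtain ⟨x, hx, rfl⟩ := hrep y
      have h1 : x * (t * x * t⁻¹) ∈ M := mul_mem hx ((inferInstance : M.Normal).conj_mem x hx t)
      have h2 : x * (t * x * t⁻¹) ∈ N := by
        by_cases e : x ∈ N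
        · exact mul_mem e (hN.conj_mem x e t)
        obtain ⟨c, rfl⟩ := isConj_iff.1 (hcl x hx e)
        have hm : t * c * t⁻¹ * c⁻¹ ∈ M := commutator_mem_commutator (mem_top t) (mem_top c)
        have h3 := (hcm _ _).2 (mem_centralizer_singleton_iff.2 (hab _ ((hfM _).2 hm) _ ((hfM _).2 (inv_mem hx))))
        have h4 := hN.conj_mem _ h3 (c * g * c⁻¹)
        convert h4 using 1
        calc _ = c * g * c⁻¹ * (t * c * t⁻¹) * (t * g * t⁻¹) * (t * c * t⁻¹)⁻¹ := by group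
          _ = _ := by rw [ht]; group
      convert (hD _ h1).2 h2 using 1
      exact Subtype.ext (by simp [hτ])
    · obtain ⟨x, hx, rfl⟩ := hrep y
      obtain ⟨n, hn, rfl⟩ := hrep u
      rw [hD x hx] at hy
      rw [hD n hn] at hu
      obtain ⟨c, hc⟩ := hng x hx hy n hu
      have hcM := hC' x hx hy c (by rw [hc, mul_inv_cancel_right]; exact hu)
      exact ⟨⟨π c, (hπM c).2 hcM⟩, Subtype.ext (by simpa using congrArg π hc)⟩
  have := hP.isNilpotent
  obtain ⟨y, hy1, hy2⟩ := hy.exists_pow (p := p) (fun e => hgN ((hD g hgM).1 (e ▸ mem_top _))) (fun y => by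
    obtain ⟨x, hx, rfl⟩ := hrep y
    convert (hD _ (pow_mem hx p)).2 (hpN x hx) using 1
    exact Subtype.ext (by simp))
  obtain ⟨x, hx, rfl⟩ := hrep y
  rw [hD x hx] at hy1
  have hone : ∀ y ∈ K, y ^ p ^ k = 1 → y = 1 := fun y hy e =>
    orderOf_eq_one_iff.1 (Nat.eq_one_of_dvd_coprimes ((PiGrp.coprime_p hH.pi).pow_right k)
      (K.orderOf_dvd_natCard hy) (orderOf_dvd_of_pow_eq_one e))
  have hxp : x ^ p = 1 := hone _ ((hπk _).1 (by simpa using congrArg Subtype.val hy2))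
    (by rw [← pow_mul, mul_comm, pow_mul, hk' x hx hy1, one_pow])
  let φ : K ≃* K := MulAut.conjNormal x
  have hφ : MonoidHom.FixedPointFree (φ : K →* K) := by
    intro y e
    have e1 : x * y * x⁻¹ = y := congrArg Subtype.val e
    have e2 : Commute (y : G) x := (mul_inv_eq_iff_eq_mul.1 e1).symm
    have e3 := hk' (y * x) (mul_mem (hNM (hKN y.2)) hx) fun e => hy1 ((mul_mem_cancel_left (hKN y.2)).1 e)
    rw [e2.mul_pow, hk' x hx hy1, mul_one] at e3
    exact Subtype.ext (hone y y.2 e3)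
  by_cases e : φ = 1
  · have : Subsingleton K := ⟨fun a b => (hφ a (by rw [e]; rfl)).trans (hφ b (by rw [e]; rfl)).symm⟩
    infer_instance
  have := Agent.S0033.result φ hφ p hp (orderOf_eq_prime (by rw [← map_pow, hxp, map_one]) e)
  infer_instance

end Cfsg.Lib.Cam
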